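import Cfsg.Agent.H945.Torus
import Cfsg.Agent.Nodes.RGDFoldSL

/-!
# The torus of a root group datum with nodes `SL₂(F)` (helper934)

`Φ : SL₂(F) → Y` parametrises `X (sr i)`, `Φ w = n i`, `Φ (diag) ⊆ T`. Then `T ∩ ⟨X (sr i), X (-sr i)⟩ = Φ (diag) =: AA Φ`
is cyclic, inverted by `n i`, and contains `t⁻¹ n i t (n i)⁻¹` for `t ∈ T`; if the root groups generate then `T` is the
join of the `AA (Φ i)`.
-/

set_option autoImplicit false
set_option linter.unusedSectionVars false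

namespace Cfsg.Agent.H934.PQR.TorGen

open CoxeterSystem Cfsg.Agent.ChevalleyStructure.CoxeterGeom Cfsg.Agent.Tits.Roots Cfsg.Agent.Tits.Core
  Cfsg.Agent.Nodes.Reps Cfsg.Agent.Nodes.BNOf Cfsg.Agent.Nodes.FreeTorus
open Cfsg.Agent.Nodes.RGDFoldSL (wS hS coe_wS coe_hS lo_eq)
open Cfsg.Agent.ChevalleyStructure.SL2Hom (up lo)

section SL

variable {F : Type*} [Field F]

/-- the diagonal torus of `SL₂(F)` -/
def tau : Fˣ →* Matrix.SpecialLinearGroup (Fin 2) F where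
  toFun c := ⟨!![(c : F), 0; 0, ((c⁻¹ : Fˣ) : F)], by simp⟩
  map_one' := by
    ext i j
    fin_cases i <;> fin_cases j <;> simp
  map_mul' a b := by
    refine Subtype.ext ?_
    refine Eq.trans ?_ (Matrix.SpecialLinearGroup.coe_mul _ _).symm
    show !![((a * b : Fˣ) : F), 0; 0, (((a * b)⁻¹ : Fˣ) : F)] = !![(a : F), 0; 0, ((a⁻¹ : Fˣ) : F)] *
      !![(b : F), 0; 0, ((b⁻¹ : Fˣ) : F)]
    ext i j
    fin_cases i <;> fin_cases j <;> simp [Matrix.mul_apply, Fin.sum_univ_two, mul_comm]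

theorem coe_tau (c : Fˣ) : ((tau c : Matrix.SpecialLinearGroup (Fin 2) F) : Matrix (Fin 2) (Fin 2) F) =
    !![(c : F), 0; 0, ((c⁻¹ : Fˣ) : F)] := rfl

theorem tau_eq (c : Fˣ) : tau c = hS (c : F) := by
  apply Subtype.ext
  rw [coe_hS c.ne_zero]
  change ((tau c : Matrix.SpecialLinearGroup (Fin 2) F) : Matrix (Fin 2) (Fin 2) F) = _
  rw [coe_tau, Units.val_inv_eq_inv_val]

theorem wS_tau (c : Fˣ) : wS 1 * tau c * (wS 1)⁻¹ = (tau c)⁻¹ := by
  rw [mul_inv_eq_iff_eq_mul, ← map_inv]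
  apply Subtype.ext
  rw [Matrix.SpecialLinearGroup.coe_mul, Matrix.SpecialLinearGroup.coe_mul, coe_wS one_ne_zero, coe_tau, coe_tau]
  ext i j
  fin_cases i <;> fin_cases j <;> simp [Matrix.mul_apply, Fin.sum_univ_two]

/-- **Bruhat decomposition** -/
theorem bruhat (g : Matrix.SpecialLinearGroup (Fin 2) F) :
    (∃ (x : F) (c : Fˣ), g = up x * tau c) ∨ ∃ (x : F) (c : Fˣ) (y : F), g = up x * tau c * wS 1 * up y := by
  have hdet : g.1 0 0 * g.1 1 1 - g.1 0 1 * g.1 1 0 = 1 := by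
    rw [← Matrix.det_fin_two]; exact g.2
  by_cases hc : g.1 1 0 = 0
  · left
    rw [hc, mul_zero, sub_zero] at hdet
    have h0 : g.1 0 0 ≠ 0 := left_ne_zero_of_mul_eq_one hdet
    have h1 : g.1 1 1 = (g.1 0 0)⁻¹ := eq_inv_of_mul_eq_one_right hdet
    refine ⟨g.1 0 1 * g.1 0 0, Units.mk0 _ h0, ?_⟩
    apply Subtype.ext
    rw [Matrix.SpecialLinearGroup.coe_mul, coe_tau]
    show g.1 = (!![1, g.1 0 1 * g.1 0 0; 0, 1] : Matrix (Fin 2) (Fin 2) F) * _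
    ext i j
    fin_cases i <;> fin_cases j
    · simp [Matrix.mul_apply, Fin.sum_univ_two]
    · simp [Matrix.mul_apply, Fin.sum_univ_two, h0]
    · simp [Matrix.mul_apply, Fin.sum_univ_two, hc]
    · simp [Matrix.mul_apply, Fin.sum_univ_two, h1]
  · right
    refine ⟨g.1 0 0 / g.1 1 0, Units.mk0 (-(g.1 1 0)⁻¹) (neg_ne_zero.2 (inv_ne_zero hc)), g.1 1 1 / g.1 1 0, ?_⟩
    apply Subtype.ext
    rw [Matrix.SpecialLinearGroup.coe_mul, Matrix.SpecialLinearGroup.coe_mul, Matrix.SpecialLinearGroup.coe_mul, coe_tau,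
      coe_wS one_ne_zero]
    show g.1 = (!![1, g.1 0 0 / g.1 1 0; 0, 1] : Matrix (Fin 2) (Fin 2) F) * _ * _ *
      (!![1, g.1 1 1 / g.1 1 0; 0, 1] : Matrix (Fin 2) (Fin 2) F)
    have h01 : g.1 0 1 = (g.1 0 0 * g.1 1 1 - 1) / g.1 1 0 := by
      rw [eq_div_iff hc]; linear_combination -hdet
    ext i j
    fin_cases i <;> fin_cases j
    · simp [Matrix.mul_apply, Fin.sum_univ_two, hc]
    · simp [Matrix.mul_apply, Fin.sum_univ_two]
      rw [h01]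
      field_simp
      ring
    · simp [Matrix.mul_apply, Fin.sum_univ_two]
    · simp [Matrix.mul_apply, Fin.sum_univ_two, hc]
      field_simp

end SL

section

variable {I W Y : Type*} [Fintype I] [DecidableEq I] [Group W] [Group Y] {M : CoxeterMatrix I}
  {cs : CoxeterSystem M W} {A : I → I → ℤ} {h : IsCartan M A} {p : ℕ} {T : Subgroup Y} {n : I → Y}
  {X : (I → ℤ) → Subgroup Y}

/-- the node `i` is parametrised by `SL₂(F)` -/
structure Node (T : Subgroup Y) (n : I → Y) (X : (I → ℤ) → Subgroup Y) (i : I) {F : Type*} [Field F]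
    (Φ : Matrix.SpecialLinearGroup (Fin 2) F →* Y) : Prop where
  mem : ∀ u, u ∈ X (sr i) ↔ ∃ a, u = Φ (up a)
  ns : Φ (wS 1) = n i
  tor : ∀ c : Fˣ, Φ (tau c) ∈ T

/-- the rank one torus -/
def AA {F : Type*} [Field F] (Φ : Matrix.SpecialLinearGroup (Fin 2) F →* Y) : Subgroup Y := (Φ.comp tau).range

theorem mem_AA {F : Type*} [Field F] {Φ : Matrix.SpecialLinearGroup (Fin 2) F →* Y} {t : Y} :
    t ∈ AA Φ ↔ ∃ c : Fˣ, Φ (tau c) = t := Iff.rfl

theorem cyclic_AA {F : Type*} [Field F] [Finite F] (Φ : Matrix.SpecialLinearGroup (Fin 2) F →* Y) :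
    IsCyclic ↥(AA Φ) := by
  have : IsCyclic Fˣ := inferInstance
  exact isCyclic_of_surjective (Φ.comp tau).rangeRestrict (Φ.comp tau).rangeRestrict_surjective

variable {F : Type*} [Field F] {i : I} {Φ : Matrix.SpecialLinearGroup (Fin 2) F →* Y}

theorem Node.AA_le (N : Node T n X i Φ) : AA Φ ≤ T := by
  rintro _ ⟨c, rfl⟩
  exact N.tor c

theorem Node.inv (N : Node T n X i Φ) {s : Y} (hs : s ∈ AA Φ) : n i * s * (n i)⁻¹ = s⁻¹ := by
  obtain ⟨c, rfl⟩ := hs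
  rw [← N.ns]
  show Φ (wS 1) * Φ (tau c) * (Φ (wS 1))⁻¹ = (Φ (tau c))⁻¹
  rw [← map_mul, ← map_inv, ← map_mul, wS_tau, map_inv]

theorem Node.neg (R : RGD cs h p T n X) (N : Node T n X i Φ) (a : F) : Φ (lo a) ∈ X (-sr i) := by
  have h1 : cj (n i) (X (sr i)) = X (-sr i) := by
    rw [R.conj i _ (isRoot_sr cs h i), rep_simple_sr]
  rw [← h1, lo_eq, map_mul, map_mul, map_inv, N.ns]
  exact ⟨Φ (up (-a)), (N.mem _).2 ⟨_, rfl⟩, rfl⟩

theorem Node.LL_le (R : RGD cs h p T n X) (N : Node T n X i Φ) : LL X (sr i) ≤ Φ.range := by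
  have h0 : X (sr i) ≤ Φ.range := by
    intro u hu
    obtain ⟨a, rfl⟩ := (N.mem u).1 hu
    exact ⟨_, rfl⟩
  have h1 : cj (n i) (X (sr i)) = X (-sr i) := by
    rw [R.conj i _ (isRoot_sr cs h i), rep_simple_sr]
  refine sup_le h0 ?_
  rw [← h1]
  rintro _ ⟨u, hu, rfl⟩
  show n i * u * (n i)⁻¹ ∈ _
  have h2 : n i ∈ Φ.range := ⟨_, N.ns⟩
  exact mul_mem (mul_mem h2 (h0 hu)) (inv_mem h2)

theorem Node.n_mem (R : RGD cs h p T n X) (N : Node T n X i Φ) : n i ∈ LL X (sr i) := by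
  rw [← N.ns]
  have h1 : ∀ a : F, Φ (up a) ∈ LL X (sr i) := fun a => Subgroup.mem_sup_left ((N.mem _).2 ⟨a, rfl⟩)
  have h2 : ∀ a : F, Φ (lo a) ∈ LL X (sr i) := fun a => Subgroup.mem_sup_right (N.neg R a)
  show Φ (up 1 * (lo (-1⁻¹) * up 1)) ∈ _
  rw [map_mul, map_mul]
  exact mul_mem (h1 _) (mul_mem (h2 _) (h1 _))

/-- `T ∩ X (sr i) = 1` -/
theorem T_inf_X (R : RGD cs h p T n X) [hp : Fact p.Prime] (i : I) {t : Y} (ht : t ∈ T) (hx : t ∈ X (sr i)) : t = 1 := by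
  obtain ⟨k, hk⟩ := R.pgrp i ⟨t, hx⟩
  have h1 : t ^ p ^ k = 1 := congrArg Subtype.val hk
  have h2 : orderOf t ∣ p ^ k := orderOf_dvd_of_pow_eq_one h1
  have h3 : orderOf t ∣ Nat.card T := by
    rw [← Subgroup.orderOf_mk t ht]
    exact orderOf_dvd_natCard _
  have h4 : Nat.Coprime (Nat.card T) (p ^ k) := R.tcop.pow_right k
  have h5 : orderOf t ∣ Nat.gcd (Nat.card T) (p ^ k) := Nat.dvd_gcd h3 h2
  rw [h4] at h5
  exact orderOf_eq_one_iff.1 (Nat.dvd_one.1 h5)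

/-- **`T ∩ ⟨X (sr i), X (-sr i)⟩`** -/
theorem Node.inf_le (R : RGD cs h p T n X) [hp : Fact p.Prime] (N : Node T n X i Φ) : T ⊓ LL X (sr i) ≤ AA Φ := by
  rintro t ⟨ht, hl⟩
  obtain ⟨g, rfl⟩ := N.LL_le R hl
  rcases bruhat g with ⟨x, c, hg⟩ | ⟨x, c, y, hg⟩
  · have h1 : Φ (up x) ∈ T := by
      have h2 : Φ (up x) = Φ g * (Φ (tau c))⁻¹ := by
        rw [hg, map_mul]; group
      rw [h2]
      exact mul_mem ht (inv_mem (N.tor c))
    have h3 := T_inf_X R i h1 ((N.mem _).2 ⟨x, rfl⟩)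
    refine ⟨c, ?_⟩
    show Φ (tau c) = Φ g
    rw [hg, map_mul, h3, one_mul]
  · exfalso
    -- `n i` normalises `X (sr i)`
    have hT : ∀ s ∈ T, s ∈ Subgroup.normalizer (X (sr i) : Set Y) := fun s hs =>
      mem_normalizer_iff_cj.2 (R.tor _ (isRoot_sr cs h i) s hs)
    have hXn : ∀ s ∈ X (sr i), s ∈ Subgroup.normalizer (X (sr i) : Set Y) := fun s hs => Subgroup.le_normalizer hs
    have h2 : n i = (Φ (tau c))⁻¹ * (Φ (up x))⁻¹ * Φ g * (Φ (up y))⁻¹ := by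
      rw [hg, map_mul, map_mul, map_mul, N.ns]; group
    have h3 : n i ∈ Subgroup.normalizer (X (sr i) : Set Y) := by
      rw [h2]
      exact mul_mem (mul_mem (mul_mem (inv_mem (hT _ (N.tor c))) (inv_mem (hXn _ ((N.mem _).2 ⟨x, rfl⟩)))) (hT _ ht))
        (inv_mem (hXn _ ((N.mem _).2 ⟨y, rfl⟩)))
    have h4 : cj (n i) (X (sr i)) = X (sr i) := mem_normalizer_iff_cj.1 h3
    have h5 : cj (n i) (X (sr i)) = X (-sr i) := by
      rw [R.conj i _ (isRoot_sr cs h i), rep_simple_sr]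
    apply R.notp i
    rw [← h5, h4, sup_idem]
    exact R.pgrp i

theorem Node.comm_mem (R : RGD cs h p T n X) [hp : Fact p.Prime] (N : Node T n X i Φ) {t : Y} (ht : t ∈ T) :
    t⁻¹ * (n i * t * (n i)⁻¹) ∈ AA Φ := by
  refine N.inf_le R ⟨?_, ?_⟩
  · exact T.mul_mem (T.inv_mem ht) ((Subgroup.mem_normalizer_iff.1 (R.nsys.norm i) t).1 ht)
  · have h1 := Cfsg.Agent.H945.T_norm_LL R i (inv_mem ht)
    have h2 := (Subgroup.mem_normalizer_iff.1 h1 (n i)).1 (N.n_mem R)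
    have h3 : t⁻¹ * (n i * t * (n i)⁻¹) = t⁻¹ * n i * (t⁻¹)⁻¹ * (n i)⁻¹ := by group
    rw [h3]
    exact (LL X (sr i)).mul_mem h2 ((LL X (sr i)).inv_mem (N.n_mem R))

end

section all

variable {I W Y : Type*} [Fintype I] [DecidableEq I] [Group W] [Group Y] {M : CoxeterMatrix I}
  {cs : CoxeterSystem M W} {A : I → I → ℤ} {h : IsCartan M A} {p : ℕ} {T : Subgroup Y} {n : I → Y}
  {X : (I → ℤ) → Subgroup Y}

/-- **The torus is the join of the rank one tori.** -/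
theorem T_eq_iSup [Finite Y] [Finite W] (R : RGD cs h p T n X) [hp : Fact p.Prime]
    (hG : RGD.Sup X {r | IsRoot cs h r} = ⊤) {F : I → Type*} [∀ i, Field (F i)]
    (Φ : ∀ i, Matrix.SpecialLinearGroup (Fin 2) (F i) →* Y) (N : ∀ i, Node T n X i (Φ i)) :
    T = ⨆ i, AA (Φ i) := by
  apply le_antisymm
  · have h1 := Cfsg.Agent.H945.T_inf_Sup R fun i => (N i).n_mem R
    rw [hG, inf_top_eq] at h1
    exact h1.trans (iSup_mono fun i => (N i).inf_le R)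
  · exact iSup_le fun i => (N i).AA_le

end all

end Cfsg.Agent.H934.PQR.TorGen
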