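import Mathlib
import Cfsg.Agent.H934.PQR.TorGen
import Cfsg.Agent.H330.GowCover
import Cfsg.Agent.Nodes.RGDTwNode
import Cfsg.Agent.ChevalleyStructure.HMatDiagAll

/-!
# The torus of `²E₆(q)` (helper934)

`torAb` : the preimage of the torus in a cover of `²E₆(q)` with kernel of odd order is abelian.
-/

set_option autoImplicit false
set_option linter.unusedSectionVars false
set_option maxHeartbeats 400000

namespace Cfsg.Agent.H934.PQR.TorTwE6

open CoxeterSystem Cfsg.Agent.ChevalleyStructure.CoxeterGeom Cfsg.Agent.Tits.Roots Cfsg.Agent.Tits.Core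
  Cfsg.Agent.Nodes.BNOf Cfsg.Agent.Nodes.RGDTwGen Cfsg.Agent.Nodes.RGDChev Cfsg.Agent.Nodes.RGDFold
  Cfsg.Agent.Nodes.RGDFoldSL Cfsg.Agent.Nodes.RGDTwE6 Cfsg.Agent.Nodes.RGDTwNode.E6
open Cfsg.Lie Cfsg.Agent.ChevalleyStructure
  Cfsg.Agent.ChevalleyStructure.TwistedU Cfsg.Agent.ChevalleyStructure.TwistedFix
open Cfsg.Agent.ChevalleyStructure.TwE6Basic (sg exists_frob)
open Cfsg.Agent.H934.PQR.TorGen Cfsg.Agent.H330.GowCover

universe u

theorem tab {K : Type u} [Field K] {s t : GL chevE6.Idx K} (hs : s ∈ chevE6.diagonalSubgroup K)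
    (ht : t ∈ chevE6.diagonalSubgroup K) : s * t = t * s := by
  obtain ⟨χ, h1⟩ := HMatDiagAll.diagonalSubgroup_le_torus (D := chevE6) (by simp) hs
  obtain ⟨ψ, h2⟩ := HMatDiagAll.diagonalSubgroup_le_torus (D := chevE6) (by simp) ht
  apply Units.ext
  rw [Units.val_mul, Units.val_mul, h1, h2, Matrix.diagonal_mul_diagonal, Matrix.diagonal_mul_diagonal]
  congr 1
  funext i
  exact mul_comm _ _

section

variable {K : Type u} [Field K] {q : ℕ} {φ : K →+* K}

theorem hf (i : Fin 4) : ∀ s ∈ Cfsg.Agent.Nodes.RGDTwNode.E6.rep i :: rest i, ∀ t : K,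
    ((TwistedE6Sigma.eps s : ℤ) : K) * φ t = φ t := by
  intro s hs t
  rw [eps_one i s hs, Int.cast_one, one_mul]

variable [Fintype K] (hφ : ∀ x, φ x = x ^ q) (hqq : ∀ t : K, (t ^ q) ^ q = t)

/-- the homomorphism of the node `i` -/
noncomputable def Ps (i : Fin 4) : Matrix.SpecialLinearGroup (Fin 2) (Fx φ ((rest i).length + 1)) →* ↥(twistedE6 K q) :=
  Phi (foldGrp hφ hqq) (nodeOK i) (hf i)

theorem node (i : Fin 4) : Node (T K q) (nn hφ) (X φ q) i (Ps hφ hqq i) where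
  mem u := mem_X_iff (foldGrp hφ hqq) (nodeOK i) (hf i) u
  ns := Phi_wS (foldGrp hφ hqq) (nodeOK i) (hf i)
  tor c := by
    rw [tau_eq]
    exact Phi_hS (foldGrp hφ hqq) (nodeOK i) (hf i) c.ne_zero

end

theorem torAb {K : Type} [Field K] [Fintype K] {q r : ℕ} [CharP K r] (hq : IsPrimePow q) (hK : Fintype.card K = q ^ 2)
    [IsSimpleGroup ↥(twistedE6 K q)] {Γ : Type*} [Group Γ] [Finite Γ] {π : Γ →* ↥(twistedE6 K q)}
    (hπ : H80.Fpf.IsCover π) (hodd : Odd (Nat.card π.ker)) : TorAb r π := by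
  classical
  obtain ⟨φ, hφ, hqq⟩ := exists_frob hq hK
  have hr : r.Prime := CharP.char_is_prime K r
  have : Fact r.Prime := ⟨hr⟩
  let cs := (CoxeterMatrix.F₄).toCoxeterSystem
  have : Finite (CoxeterMatrix.F₄).Group :=
    Cfsg.Agent.Nodes.RGDFold.finite_W (hp := Cfsg.Agent.Nodes.RGDTwE6.hp) CoxeterMatrix.F₄.toCoxeterSystem
      Cfsg.Agent.Nodes.RGDTwE6.isCartan Cfsg.Agent.Nodes.RGDTwE6.foldData
  have R := rgd cs hφ hqq r
  have hG := G1_eq_top cs hφ hqq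
  have hgen : RGD.Sup (X φ q) {x | IsRoot cs isCartan x} = ⊤ := hG
  refine TorAb.of_rgd hr R hgen hπ hodd (fun i => AA (Ps hφ hqq i)) (nn hφ)
    (T_eq_iSup R hgen (fun i => Ps hφ hqq i) (node hφ hqq)) (fun i => cyclic_AA _) ?_
    (fun i s hs => (node hφ hqq i).inv hs) (fun i t ht => (node hφ hqq i).comm_mem R ht)
  intro s hs t ht
  exact Subtype.ext (tab hs.1 ht.1)

end Cfsg.Agent.H934.PQR.TorTwE6
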